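import Groth.Agent.Sga3.H814.UniStep
import Groth.Agent.Books.CharZeroUnip2
import Mathlib.RingTheory.AlgebraicIndependent.Basic
import Mathlib.RingTheory.HopfAlgebra.Quotient
import Mathlib.Algebra.Polynomial.Coeff

/-!
# A central additive subgroup from a central vector group

`J` a Hopf ideal of `H` such that `D = H / J` is a polynomial ring on primitive generators and such that `V(J)` is
central.  Then there is a nontrivial `GaFun k H`.
-/

set_option autoImplicit false

universe u v w

open TensorProduct HopfRep Finset Polynomial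
open Groth.Agent.Books.ComodDual Groth.Agent.Books.ComodSocle Groth.Agent.Books.CharZeroUnip2
open Groth.Agent.Sga3.H814.UniStep

namespace Groth.Agent.Sga3.H814.GaFunOf

section Poly

variable {k : Type u} [Field k]

/-- the comultiplication of the additive group -/
noncomputable def rho : k[X] →ₐ[k] k[X] ⊗[k] k[X] := aeval (X ⊗ₜ[k] 1 + 1 ⊗ₜ[k] X)

lemma coeff_rho (i j : ℕ) (P : k[X]) :
    LinearMap.mul' k k (TensorProduct.map (lcoeff k i) (lcoeff k j) (rho P)) =
      ((i + j).choose i : k) * P.coeff (i + j) := by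
  induction P using Polynomial.induction_on' with
  | add p q hp hq => simp only [map_add, hp, hq, coeff_add, mul_add]
  | monomial m a =>
    rw [← C_mul_X_pow_eq_monomial, ← smul_eq_C_mul]
    simp only [map_smul, coeff_smul, smul_eq_mul, coeff_X_pow]
    have h1 : rho (X ^ m : k[X]) = ∑ ab ∈ antidiagonal m,
        m.choose ab.1 • (((X : k[X]) ^ ab.1) ⊗ₜ[k] ((X : k[X]) ^ ab.2)) := by
      rw [map_pow, rho, aeval_X, (Commute.all _ _).add_pow']
      refine Finset.sum_congr rfl fun ab _ => ?_
      rw [Algebra.TensorProduct.tmul_pow, Algebra.TensorProduct.tmul_pow,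
        Algebra.TensorProduct.tmul_mul_tmul, one_pow, one_pow, one_mul, mul_one]
    rw [h1]
    simp only [map_sum, map_nsmul, TensorProduct.map_tmul, LinearMap.mul'_apply, lcoeff_apply,
      coeff_X_pow]
    by_cases hm : i + j = m
    · subst hm
      rw [Finset.sum_eq_single (i, j)]
      · simp [mul_comm]
      · rintro ⟨a, b⟩ _ hne
        by_cases hia : i = a
        · by_cases hjb : j = b
          · exact absurd (by rw [hia, hjb]) hne
          · simp [hjb]
        · simp [hia]
      · intro h
        exact absurd (by simp) h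
    · rw [Finset.sum_eq_zero, if_neg hm]
      · simp
      · rintro ⟨a, b⟩ hab
        rw [mem_antidiagonal] at hab
        by_cases hia : i = a
        · by_cases hjb : j = b
          · exact absurd (by rw [hia, hjb]; exact hab) hm
          · simp [hjb]
        · simp [hia]

end Poly

section Ext

variable {k : Type u} [Field k] {D : Type v} [CommRing D] [Algebra k D] {n : ℕ} {x : Fin n → D}

lemma exists_hom (hx : AlgebraicIndependent k x) (hs : Algebra.adjoin k (Set.range x) = ⊤)
    {R : Type w} [CommRing R] [Algebra k R] (y : Fin n → R) :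
    ∃ φ : D →ₐ[k] R, ∀ i, φ (x i) = y i := by
  have hsurj : Function.Surjective (MvPolynomial.aeval x : MvPolynomial (Fin n) k →ₐ[k] D) := by
    rw [← AlgHom.range_eq_top, ← Algebra.adjoin_range_eq_range_aeval, hs]
  let e := AlgEquiv.ofBijective (MvPolynomial.aeval x : MvPolynomial (Fin n) k →ₐ[k] D) ⟨hx, hsurj⟩
  refine ⟨(MvPolynomial.aeval y).comp (e.symm : D →ₐ[k] MvPolynomial (Fin n) k), fun i => ?_⟩
  have h1 : e (MvPolynomial.X i) = x i := MvPolynomial.aeval_X _ _
  rw [AlgHom.comp_apply]
  have h2 : (e.symm : D →ₐ[k] MvPolynomial (Fin n) k) (x i) = MvPolynomial.X i := by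
    rw [← h1]
    exact e.symm_apply_apply _
  rw [h2, MvPolynomial.aeval_X]

lemma hom_ext (hs : Algebra.adjoin k (Set.range x) = ⊤) {R : Type w} [CommRing R] [Algebra k R]
    {φ ψ : D →ₐ[k] R} (h : ∀ i, φ (x i) = ψ (x i)) : φ = ψ := by
  apply AlgHom.ext_of_adjoin_eq_top hs
  rintro _ ⟨i, rfl⟩
  exact h i

end Ext

section Main

variable {k : Type u} [Field k] {H : Type v} [CommRing H] [HopfAlgebra k H]

/-- a central quotient which is a nonzero vector group contains a central additive group -/
theorem exists_gaFun (J : Ideal H) [J.IsHopfIdeal k] {n : ℕ} (x : Fin n → H ⧸ J)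
    (hp : ∀ i, IsPrim k (x i)) (hx : AlgebraicIndependent k x)
    (hs : Algebra.adjoin k (Set.range x) = ⊤) (i₀ : Fin n)
    (hc : ∀ h : H, (Ideal.Quotient.mkₐ k J).toLinearMap.lTensor H
        (CoalgebraStruct.comul (R := k) h) = (Ideal.Quotient.mkₐ k J).toLinearMap.lTensor H
          (TensorProduct.comm k H H (CoalgebraStruct.comul (R := k) h))) :
    ∃ g : GaFun k H, g.π 1 ≠ 0 := by
  classical
  obtain ⟨φ, hφ⟩ := exists_hom hx hs (fun i => if i = i₀ then (X : k[X]) else 0)
  let mk := Ideal.Quotient.mkₐ k J
  -- `φ` is a bialgebra map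
  have hcomul : (Algebra.TensorProduct.map φ φ).comp (Bialgebra.comulAlgHom k (H ⧸ J)) =
      rho.comp φ := by
    apply hom_ext hs
    intro i
    have h1 : Bialgebra.comulAlgHom k (H ⧸ J) (x i) = x i ⊗ₜ[k] (1 : H ⧸ J) + (1 : H ⧸ J) ⊗ₜ[k] x i :=
      hp i
    rw [AlgHom.comp_apply, h1, map_add, Algebra.TensorProduct.map_tmul,
      Algebra.TensorProduct.map_tmul, map_one, AlgHom.comp_apply, hφ]
    by_cases h : i = i₀
    · rw [if_pos h, rho, aeval_X]
    · rw [if_neg h, map_zero, zero_tmul, tmul_zero, add_zero]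
  have hcounit : ∀ d : H ⧸ J, (φ d).coeff 0 = CoalgebraStruct.counit (R := k) d := by
    have h1 : (aeval (0 : k)).comp φ = Bialgebra.counitAlgHom k (H ⧸ J) := by
      apply hom_ext hs
      intro i
      have h2 : Bialgebra.counitAlgHom k (H ⧸ J) (x i) = 0 := (hp i).counit
      rw [AlgHom.comp_apply, h2, hφ]
      by_cases h : i = i₀
      · rw [if_pos h, aeval_X]
      · rw [if_neg h, map_zero]
    intro d
    have h2 := DFunLike.congr_fun h1 d
    rw [AlgHom.comp_apply] at h2
    rw [coeff_zero_eq_aeval_zero]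
    exact h2
  -- compatibility of the comultiplications of `H` and `H / J`
  have hmk : ∀ h : H, CoalgebraStruct.comul (R := k) (mk h) =
      TensorProduct.map mk.toLinearMap mk.toLinearMap (CoalgebraStruct.comul (R := k) h) := by
    intro h
    exact (LinearMap.congr_fun
      (Bialgebra.Quotient.mkBialgHom (R := k) J).toCoalgHom.map_comp_comul h).symm
  have hmk0 : ∀ h : H, CoalgebraStruct.counit (R := k) (mk h) = CoalgebraStruct.counit (R := k) h :=
    fun h => rfl
  let π : ℕ → (H →ₗ[k] k) := fun n => lcoeff k n ∘ₗ φ.toLinearMap ∘ₗ mk.toLinearMap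
  have hπ : ∀ n h, π n h = (φ (mk h)).coeff n := fun _ _ => rfl
  refine ⟨{ π := π, zero := ?_, one := ?_, mul := ?_, conv_eq := ?_, central := ?_, fin := ?_ }, ?_⟩
  · apply LinearMap.ext
    intro h
    rw [hπ, hcounit, hmk0]
  · intro n hn
    rw [hπ, map_one, map_one, coeff_one, if_neg hn.ne']
  · intro n a b
    rw [hπ, map_mul, map_mul, coeff_mul]
    rfl
  · intro i j
    apply LinearMap.ext
    intro h
    rw [LinearMap.smul_apply, hπ, smul_eq_mul, ← coeff_rho]
    have h1 := DFunLike.congr_fun hcomul (mk h)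
    rw [AlgHom.comp_apply, AlgHom.comp_apply] at h1
    rw [← h1]
    change _ = LinearMap.mul' k k (TensorProduct.map (lcoeff k i) (lcoeff k j)
      (TensorProduct.map φ.toLinearMap φ.toLinearMap (CoalgebraStruct.comul (R := k) (mk h))))
    rw [hmk, ← LinearMap.comp_apply (TensorProduct.map φ.toLinearMap φ.toLinearMap),
      ← TensorProduct.map_comp, ← LinearMap.comp_apply (TensorProduct.map (lcoeff k i) (lcoeff k j)),
      ← TensorProduct.map_comp]
    rfl
  · intro n f
    apply LinearMap.ext
    intro h
    have h1 := hc h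
    have h2 : ∀ z : H ⊗[k] H, LinearMap.mul' k k (TensorProduct.map f (π n) z) =
        LinearMap.mul' k k (TensorProduct.map f (lcoeff k n ∘ₗ φ.toLinearMap)
          (mk.toLinearMap.lTensor H z)) := by
      intro z
      rw [LinearMap.lTensor, ← LinearMap.comp_apply (TensorProduct.map f _),
        ← TensorProduct.map_comp]
      rfl
    have h3 : ∀ z : H ⊗[k] H, LinearMap.mul' k k (TensorProduct.map (π n) f z) =
        LinearMap.mul' k k (TensorProduct.map f (π n) (TensorProduct.comm k H H z)) := by
      intro z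
      induction z with
      | zero => simp
      | add a b ha hb => simp only [map_add, ha, hb]
      | tmul a b => simp [mul_comm]
    change LinearMap.mul' k k (TensorProduct.map (π n) f (CoalgebraStruct.comul (R := k) h)) =
      LinearMap.mul' k k (TensorProduct.map f (π n) (CoalgebraStruct.comul (R := k) h))
    rw [h3, h2, h2, ← h1]
  · intro h
    exact ⟨(φ (mk h)).natDegree, fun n hn => coeff_eq_zero_of_natDegree_lt hn⟩
  · intro h
    obtain ⟨y, hy⟩ := Ideal.Quotient.mk_surjective (x i₀)
    have h1 := LinearMap.congr_fun h y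
    rw [hπ, LinearMap.zero_apply] at h1
    have h2 : mk y = x i₀ := hy
    rw [h2, hφ, if_pos rfl, coeff_X_one] at h1
    exact one_ne_zero h1

end Main

end Groth.Agent.Sga3.H814.GaFunOf
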