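import Groth.Agent.Books.AffBridge
import Mathlib.AlgebraicGeometry.AffineSpace
import Mathlib.Algebra.MvPolynomial.Equiv

/-!
# Spectra of polynomial rings are affine spaces
-/

set_option autoImplicit false

universe u

open CategoryTheory MonoidalCategory CartesianMonoidalCategory AlgebraicGeometry CategoryTheory.Limits
open Groth.Agent.Books.AffBridge

namespace Groth.Agent.Sga3.H814.ToAff

/-- `Spec` of an isomorphism of algebras. -/
noncomputable def specIso {k : Type u} [Field k] {A B : Type u} [CommRing A] [Algebra k A]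
    [CommRing B] [Algebra k B] (e : A ≃ₐ[k] B) : SpecOver k A ≅ SpecOver k B where
  hom := specMap k (e.symm : B →ₐ[k] A)
  inv := specMap k (e : A →ₐ[k] B)
  hom_inv_id := by
    rw [← specMap_comp]
    have : (e.symm : B →ₐ[k] A).comp (e : A →ₐ[k] B) = AlgHom.id k A := by
      apply AlgHom.ext
      intro a
      exact e.symm_apply_apply a
    rw [this, specMap_id]
  inv_hom_id := by
    rw [← specMap_comp]
    have : (e : A →ₐ[k] B).comp (e.symm : B →ₐ[k] A) = AlgHom.id k B := by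
      apply AlgHom.ext
      intro a
      exact e.apply_symm_apply a
    rw [this, specMap_id]

theorem exists_iso_affineSpace {k : Type u} [Field k] {𝒯 : Over (Spec (CommRingCat.of k))}
    {A : Type u} [CommRing A] [Algebra k A] (e : 𝒯 ≅ SpecOver k A) {N : ℕ}
    (e' : A ≃ₐ[k] MvPolynomial (Fin N) k) :
    ∃ φ : 𝒯.left ≅ 𝔸(ULift.{u} (Fin N); Spec (CommRingCat.of k)),
      φ.hom ≫ (𝔸(ULift.{u} (Fin N); Spec (CommRingCat.of k)) ↘ Spec (CommRingCat.of k)) = 𝒯.hom := by
  let i1 : 𝒯 ≅ SpecOver k (MvPolynomial (ULift.{u} (Fin N)) k) :=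
    e ≪≫ specIso (e'.trans (MvPolynomial.renameEquiv k Equiv.ulift.symm))
  let i2 : 𝒯.left ≅ Spec (CommRingCat.of (MvPolynomial (ULift.{u} (Fin N)) k)) :=
    (Over.forget _).mapIso i1
  refine ⟨i2 ≪≫ (AffineSpace.SpecIso (ULift.{u} (Fin N)) (CommRingCat.of k)).symm, ?_⟩
  have h1 : i1.hom.left ≫ (SpecOver k (MvPolynomial (ULift.{u} (Fin N)) k)).hom = 𝒯.hom :=
    Over.w i1.hom
  have h3 : (AffineSpace.SpecIso (ULift.{u} (Fin N)) (CommRingCat.of k)).inv ≫
      (𝔸(ULift.{u} (Fin N); Spec (CommRingCat.of k)) ↘ Spec (CommRingCat.of k)) =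
        (SpecOver k (MvPolynomial (ULift.{u} (Fin N)) k)).hom :=
    AffineSpace.SpecIso_inv_over _
  rw [Iso.trans_hom, Iso.symm_hom, Category.assoc, h3]
  exact h1

end Groth.Agent.Sga3.H814.ToAff
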