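import Groth.Agent.Books.ComodSocle
import Mathlib.RingTheory.HopfAlgebra.Basic
import Mathlib.Algebra.Polynomial.AlgebraMap
import Mathlib.Algebra.Polynomial.Coeff
import Mathlib.RingTheory.Adjoin.Polynomial.Basic
import Mathlib.Algebra.Order.Antidiag.Prod
import Mathlib.Data.Nat.Choose.Sum

/-!
# The basic step: coactions of a unipotent group with a central additive subgroup

`H` is a commutative unipotent bialgebra over a field `k` (functions on a unipotent group `U`), `A` a commutative
`k`-algebra with a coaction of `H` whose only invariants are the constants.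

* `GaFun k H` : a central homomorphism `𝔾ₐ → U`, as a sequence of central functionals `π n` (divided powers).
* `inv π A` : the invariants `B` of `𝔾ₐ` in `A`.
* `exists_polynomial` : either `B = A` or `A = B[f]` is a polynomial ring over `B`.
-/

set_option autoImplicit false

universe u v w

open TensorProduct HopfRep Finset
open Groth.Agent.Books.ComodDual Groth.Agent.Books.ComodSocle

namespace Groth.Agent.Sga3.H814.UniStep

/-- The coaction on the algebra `A` is an algebra map. -/
structure IsComodAlg (k : Type u) (H : Type v) (A : Type w) [Field k] [CommRing H] [Bialgebra k H]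
    [CommRing A] [Algebra k A] [Comod k H A] : Prop where
  coact_mul : ∀ a b : A, Comod.coact (k := k) (A := H) (a * b) =
    Comod.coact (k := k) (A := H) a * Comod.coact (k := k) (A := H) b
  coact_one : Comod.coact (k := k) (A := H) (1 : A) = 1

/-- A central homomorphism from the additive group, as a sequence of functionals. -/
structure GaFun (k : Type u) (H : Type v) [Field k] [CommRing H] [Bialgebra k H] where
  /-- the functionals -/
  π : ℕ → (H →ₗ[k] k)
  zero : π 0 = CoalgebraStruct.counit (R := k) (A := H)
  one : ∀ n, 0 < n → π n 1 = 0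
  mul : ∀ n a b, π n (a * b) = ∑ ij ∈ antidiagonal n, π ij.1 a * π ij.2 b
  conv_eq : ∀ i j, conv (π i) (π j) = ((i + j).choose i : k) • π (i + j)
  central : ∀ n (f : H →ₗ[k] k), conv (π n) f = conv f (π n)
  fin : ∀ h, ∃ N, ∀ n, N < n → π n h = 0

section

variable {k : Type u} {H : Type v} {A : Type w} [Field k] [CommRing H] [Bialgebra k H]
    [CommRing A] [Algebra k A] [Comod k H A] (g : GaFun k H)

/-- The operators `D n` on a comodule. -/
noncomputable def D (n : ℕ) : A →ₗ[k] A := cact (g.π n)

lemma D_zero (a : A) : D g 0 a = a := by rw [D, g.zero, cact_counit]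

lemma D_cact (n : ℕ) (f : H →ₗ[k] k) (a : A) : D g n (cact f a) = cact f (D g n a) := by
  rw [D, cact_cact, cact_cact, g.central]

lemma cact_smul (c : k) (f : H →ₗ[k] k) (a : A) : cact (c • f) a = c • cact f a := by
  rw [cact_apply, contr_smul, cact_apply]

lemma D_D (i j : ℕ) (a : A) : D g i (D g j a) = ((i + j).choose i : k) • D g (i + j) a := by
  rw [D, D, cact_cact, g.conv_eq, cact_smul, D]

lemma contr_mul (n : ℕ) (x y : A ⊗[k] H) :
    contr (g.π n) (x * y) = ∑ ij ∈ antidiagonal n, contr (g.π ij.1) x * contr (g.π ij.2) y := by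
  induction x with
  | zero => simp
  | add x x' hx hx' => simp only [add_mul, map_add, hx, hx', Finset.sum_add_distrib]
  | tmul a h =>
    induction y with
    | zero => simp
    | add y y' hy hy' => simp only [mul_add, map_add, hy, hy', Finset.sum_add_distrib]
    | tmul b h' =>
      simp only [Algebra.TensorProduct.tmul_mul_tmul, contr_tmul, g.mul, Finset.sum_smul]
      exact Finset.sum_congr rfl fun ij _ => by rw [smul_mul_smul_comm]

lemma D_mul (hA : IsComodAlg k H A) (n : ℕ) (a b : A) :
    D g n (a * b) = ∑ ij ∈ antidiagonal n, D g ij.1 a * D g ij.2 b := by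
  rw [D, cact_apply, hA.coact_mul, contr_mul]
  rfl

lemma D_one (hA : IsComodAlg k H A) (n : ℕ) (hn : 0 < n) : D g n (1 : A) = 0 := by
  rw [D, cact_apply, hA.coact_one, Algebra.TensorProduct.one_def, contr_tmul, g.one n hn, zero_smul]

lemma D_fin (a : A) : ∃ N, ∀ n, N < n → D g n a = 0 := by
  have : ∀ x : A ⊗[k] H, ∃ N, ∀ n, N < n → contr (g.π n) x = 0 := by
    intro x
    induction x with
    | zero => exact ⟨0, fun n _ => by simp⟩
    | add x y hx hy =>
      obtain ⟨N, hN⟩ := hx
      obtain ⟨M, hM⟩ := hy
      exact ⟨max N M, fun n hn => by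
        rw [map_add, hN n (lt_of_le_of_lt (le_max_left _ _) hn), hM n (lt_of_le_of_lt (le_max_right _ _) hn),
          add_zero]⟩
    | tmul a h =>
      obtain ⟨N, hN⟩ := g.fin h
      exact ⟨N, fun n hn => by rw [contr_tmul, hN n hn, zero_smul]⟩
  exact this _

/-- Elements of degree at most `N`. -/
noncomputable def F (A : Type w) [CommRing A] [Algebra k A] [Comod k H A] (N : ℕ) : Submodule k A :=
  ⨅ n : {n : ℕ // N < n}, LinearMap.ker (D (A := A) g n)

lemma mem_F {N : ℕ} {a : A} : a ∈ F g A N ↔ ∀ n, N < n → D g n a = 0 := by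
  simp [F, Submodule.mem_iInf]

lemma F_mono : Monotone (F g A) := by
  intro M N h a ha
  rw [mem_F] at ha ⊢
  exact fun n hn => ha n (lt_of_le_of_lt h hn)

lemma exists_mem_F (a : A) : ∃ N, a ∈ F g A N := by
  obtain ⟨N, hN⟩ := D_fin g a
  exact ⟨N, (mem_F g).2 hN⟩

lemma cact_mem_F {N : ℕ} (f : H →ₗ[k] k) {a : A} (ha : a ∈ F g A N) : cact f a ∈ F g A N := by
  rw [mem_F] at ha ⊢
  intro n hn
  rw [D_cact, ha n hn, map_zero]

lemma D_mem_F {M i r : ℕ} (h : M ≤ i + r) {a : A} (ha : a ∈ F g A M) : D g i a ∈ F g A r := by
  rw [mem_F] at ha ⊢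
  intro n hn
  rw [D_D, ha (n + i) (by omega), smul_zero]

/-- The invariants of the additive group. -/
noncomputable def inv (hA : IsComodAlg k H A) : Subalgebra k A where
  carrier := F g A 0
  mul_mem' := by
    intro a b ha hb
    rw [SetLike.mem_coe, mem_F] at ha hb ⊢
    intro n hn
    rw [D_mul g hA]
    refine Finset.sum_eq_zero fun ij hij => ?_
    rw [mem_antidiagonal] at hij
    rcases Nat.eq_zero_or_pos ij.1 with h | h
    · rw [hb ij.2 (by omega), mul_zero]
    · rw [ha ij.1 h, zero_mul]
  add_mem' := fun ha hb => Submodule.add_mem _ ha hb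
  algebraMap_mem' := by
    intro c
    rw [SetLike.mem_coe, mem_F]
    intro n hn
    rw [Algebra.algebraMap_eq_smul_one, map_smul, D_one g hA n hn, smul_zero]

lemma mem_inv (hA : IsComodAlg k H A) {a : A} : a ∈ inv g hA ↔ ∀ n, 0 < n → D g n a = 0 := mem_F g

lemma mem_inv_iff_F (hA : IsComodAlg k H A) {a : A} : a ∈ inv g hA ↔ a ∈ F g A 0 := Iff.rfl

/-- An invariant is a constant for multiplication. -/
lemma D_inv_mul (hA : IsComodAlg k H A) {b : A} (hb : b ∈ inv g hA) (n : ℕ) (a : A) :
    D g n (b * a) = b * D g n a := by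
  rw [D_mul g hA, Finset.sum_eq_single (0, n)]
  · rw [D_zero]
  · rintro ⟨i, j⟩ hij hne
    rw [mem_antidiagonal] at hij
    have hi : 0 < i := by
      rcases Nat.eq_zero_or_pos i with h | h
      · subst h; simp at hij; subst hij; exact absurd rfl hne
      · exact h
    rw [(mem_inv g hA).1 hb i hi, zero_mul]
  · intro h
    exact absurd (by simp) h

/-- The top coefficient of a product. -/
lemma mul_mem_F (hA : IsComodAlg k H A) {M N : ℕ} {a b : A} (ha : a ∈ F g A M) (hb : b ∈ F g A N) :
    a * b ∈ F g A (M + N) ∧ D g (M + N) (a * b) = D g M a * D g N b := by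
  have ha' := (mem_F g).1 ha
  have hb' := (mem_F g).1 hb
  constructor
  · rw [mem_F]
    intro n hn
    rw [D_mul g hA]
    refine Finset.sum_eq_zero fun ij hij => ?_
    rw [mem_antidiagonal] at hij
    rcases lt_or_ge M ij.1 with h | h
    · rw [ha' ij.1 h, zero_mul]
    · rw [hb' ij.2 (by omega), mul_zero]
  · rw [D_mul g hA, Finset.sum_eq_single (M, N)]
    · rintro ⟨i, j⟩ hij hne
      rw [mem_antidiagonal] at hij
      simp only at hij ⊢
      rcases lt_trichotomy i M with h | h | h
      · rw [hb' j (by omega), mul_zero]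
      · subst h
        have : j = N := by omega
        subst this
        exact absurd rfl hne
      · rw [ha' i h, zero_mul]
    · intro h
      exact absurd (by simp) h

lemma pow_mem_F (hA : IsComodAlg k H A) {N : ℕ} {f : A} (hf : f ∈ F g A N) (hf1 : D g N f = 1) (q : ℕ) :
    f ^ q ∈ F g A (N * q) ∧ D g (N * q) (f ^ q) = 1 := by
  induction q with
  | zero =>
    rw [mul_zero, pow_zero, D_zero]
    exact ⟨(inv g hA).one_mem, rfl⟩
  | succ q ih =>
    have := mul_mem_F g hA ih.1 hf
    rw [pow_succ, Nat.mul_succ]
    exact ⟨this.1, by rw [this.2, ih.2, hf1, one_mul]⟩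

end

section step

variable {k : Type u} {H : Type v} {A : Type w} [Field k] [CommRing H] [Bialgebra k H]
    [CommRing A] [Algebra k A] [Comod k H A] (g : GaFun k H)

/-- For a unipotent group every nonzero stable subspace of `A` contains a nonzero invariant. -/
lemma one_mem_of_stable (hU : ∀ h : H, ∃ n, h ∈ soc k H H n)
    (hfix : ∀ a : A, a ∈ fixedPts k H A → ∃ c : k, a = algebraMap k A c)
    (W : Submodule k A) (hW : ∀ f : H →ₗ[k] k, ∀ w ∈ W, cact f w ∈ W) (hne : W ≠ ⊥) : (1 : A) ∈ W := by
  classical
  have key : ∀ n, ∀ w ∈ W, w ∈ soc k H A n → w ≠ 0 → (1 : A) ∈ W := by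
    intro n
    induction n with
    | zero => intro w _ h h0; exact absurd (by simpa using h) h0
    | succ n ih =>
      intro w hw hs h0
      by_cases hall : ∀ f : H →ₗ[k] k, f 1 = 0 → cact f w = 0
      · obtain ⟨c, rfl⟩ := hfix w ((mem_fixedPts_iff w).2 hall)
        have hc : c ≠ 0 := fun h => h0 (by rw [h, map_zero])
        have := W.smul_mem c⁻¹ hw
        rwa [Algebra.algebraMap_eq_smul_one, smul_smul, inv_mul_cancel₀ hc, one_smul] at this
      · push Not at hall
        obtain ⟨f, hf, hf0⟩ := hall
        exact ih _ (hW f w hw) (mem_soc_succ.1 hs f hf) hf0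
  obtain ⟨w, hw, hw0⟩ := Submodule.exists_mem_ne_zero_of_ne_bot hne
  obtain ⟨n, hn⟩ := exists_mem_soc_of_regular hU w
  exact key n w hw hn hw0

lemma choose_eq_one {R : Type*} [CommRing R] {N : ℕ}
    (h : ∀ i, 0 < i → i < N → (N.choose i : R) = 0) (q r : ℕ) (hr : r < N) :
    ((N * q + r).choose r : R) = 1 := by
  have h1 : (1 + Polynomial.X : Polynomial R) ^ N = 1 + Polynomial.X ^ N := by
    ext i
    rw [Polynomial.coeff_one_add_X_pow, Polynomial.coeff_add, Polynomial.coeff_X_pow, Polynomial.coeff_one]
    rcases Nat.eq_zero_or_pos i with hi | hi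
    · subst hi
      have : (0 : ℕ) ≠ N := by omega
      simp [this]
    · rcases lt_trichotomy i N with hiN | hiN | hiN
      · rw [h i hi hiN, if_neg (by omega), if_neg (by omega), add_zero]
      · subst hiN
        rw [Nat.choose_self, if_neg (by omega), if_pos rfl, Nat.cast_one, zero_add]
      · rw [Nat.choose_eq_zero_of_lt hiN, if_neg (by omega), if_neg (by omega), Nat.cast_zero, add_zero]
  obtain ⟨G, hG⟩ : ∃ G : Polynomial R, (1 + Polynomial.X ^ N : Polynomial R) ^ q = 1 + Polynomial.X ^ N * G := by
    induction q with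
    | zero => exact ⟨0, by simp⟩
    | succ q ih =>
      obtain ⟨G, hG⟩ := ih
      exact ⟨1 + G + G * Polynomial.X ^ N, by rw [pow_succ, hG]; ring⟩
  have h2 : ((1 + Polynomial.X : Polynomial R) ^ (N * q + r)).coeff r = 1 := by
    rw [pow_add, pow_mul, h1, hG, add_mul, one_mul, Polynomial.coeff_add, Polynomial.coeff_one_add_X_pow,
      Nat.choose_self, mul_assoc, Polynomial.coeff_X_pow_mul', if_neg (by omega), Nat.cast_one, add_zero]
  rwa [Polynomial.coeff_one_add_X_pow] at h2

/-- **The basic step.**  Either the additive group acts trivially or `A = B[f]` is a polynomial ring over the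
invariants `B`. -/
theorem exists_polynomial (hU : ∀ h : H, ∃ n, h ∈ soc k H H n) (hA : IsComodAlg k H A) [Nontrivial A]
    (hfix : ∀ a : A, a ∈ fixedPts k H A → ∃ c : k, a = algebraMap k A c) :
    (∀ a : A, a ∈ inv g hA) ∨
    ∃ f : A, Function.Bijective (Polynomial.aeval f : Polynomial (inv g hA) →ₐ[inv g hA] A) := by
  classical
  by_cases htriv : ∀ a : A, a ∈ inv g hA
  · exact Or.inl htriv
  right
  push Not at htriv
  -- the minimal positive degree
  have hex : ∃ N, ∃ a ∈ F g A N, a ∉ inv g hA := by
    obtain ⟨a, ha⟩ := htriv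
    obtain ⟨N, hN⟩ := exists_mem_F g a
    exact ⟨N, a, hN, ha⟩
  obtain ⟨N, ⟨a0, ha0, ha0'⟩, hmin⟩ : ∃ N, (∃ a ∈ F g A N, a ∉ inv g hA) ∧
      ∀ M, M < N → F g A M ≤ F g A 0 := by
    refine ⟨Nat.find hex, Nat.find_spec hex, fun M hM a ha => ?_⟩
    have := Nat.find_min hex hM
    push Not at this
    exact this a ha
  have hN : 0 < N := by
    rcases Nat.eq_zero_or_pos N with h | h
    · subst h; exact absurd ha0 ha0'
    · exact h
  -- the leading coefficients
  have h1 : (1 : A) ∈ (F g A N).map (D g N) := by
    refine one_mem_of_stable hU hfix _ ?_ ?_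
    · rintro f _ ⟨a, ha, rfl⟩
      exact ⟨cact f a, cact_mem_F g f ha, D_cact g N f a⟩
    · intro hbot
      apply ha0'
      refine hmin (N - 1) (by omega) ?_
      rw [mem_F]
      intro n hn
      rcases eq_or_lt_of_le (show N ≤ n by omega) with h | h
      · subst h
        have : D g N a0 ∈ (F g A N).map (D g N) := ⟨a0, ha0, rfl⟩
        rwa [hbot, Submodule.mem_bot] at this
      · exact (mem_F g).1 ha0 n h
  obtain ⟨f, hf, hf1⟩ := h1
  -- binomial coefficients
  have hchoose : ∀ i, 0 < i → i < N → (N.choose i : k) = 0 := by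
    intro i hi hiN
    have h2 : D g (N - i) f ∈ F g A 0 := hmin i hiN (D_mem_F g (by omega) hf)
    have h3 := (mem_F g).1 h2 i hi
    rw [D_D, show i + (N - i) = N by omega, hf1] at h3
    have h4 := (smul_eq_zero (r := (N.choose i : k)) (m := (1 : A))).1 h3
    exact h4.resolve_right one_ne_zero
  refine ⟨f, ?_, ?_⟩
  · -- injectivity
    rw [injective_iff_map_eq_zero]
    intro p hp
    by_contra hp0
    have key : ∀ m (p : Polynomial (inv g hA)), p.natDegree ≤ m →
        Polynomial.aeval f p ∈ F g A (N * m) ∧ D g (N * m) (Polynomial.aeval f p) = (p.coeff m : A) := by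
      intro m p hpm
      rw [Polynomial.aeval_eq_sum_range' (Nat.lt_succ_of_le hpm)]
      have hterm : ∀ i, (p.coeff i • f ^ i : A) ∈ F g A (N * i) ∧
          ∀ n, D g n (p.coeff i • f ^ i : A) = (p.coeff i : A) * D g n (f ^ i) := by
        intro i
        have e : (p.coeff i • f ^ i : A) = (p.coeff i : A) * f ^ i := rfl
        rw [e]
        refine ⟨?_, fun n => D_inv_mul g hA (p.coeff i).2 n _⟩
        have := mul_mem_F g hA (M := 0) (N := N * i) (p.coeff i).2 (pow_mem_F g hA hf hf1 i).1
        rw [zero_add] at this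
        exact this.1
      constructor
      · refine Submodule.sum_mem _ fun i hi => F_mono g ?_ (hterm i).1
        rw [Finset.mem_range] at hi
        exact Nat.mul_le_mul_left N (by omega)
      · rw [map_sum, Finset.sum_range_succ, Finset.sum_eq_zero, zero_add, (hterm m).2,
          (pow_mem_F g hA hf hf1 m).2, mul_one]
        intro i hi
        rw [Finset.mem_range] at hi
        exact (mem_F g).1 (hterm i).1 _ (Nat.mul_lt_mul_of_pos_left hi hN)
    have h5 := (key p.natDegree p le_rfl).2
    rw [hp, map_zero] at h5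
    apply hp0
    rw [← Polynomial.leadingCoeff_eq_zero]
    exact Subtype.val_injective h5.symm
  · -- surjectivity
    have key : ∀ M, ∀ a ∈ F g A M, a ∈ (Polynomial.aeval f : Polynomial (inv g hA) →ₐ[inv g hA] A).range := by
      intro M
      induction M using Nat.strong_induction_on with
      | _ M ih =>
        intro a ha
        rcases lt_or_ge M N with hMN | hMN
        · have h6 : a ∈ inv g hA := hmin M hMN ha
          exact ⟨Polynomial.C ⟨a, h6⟩, by simp [Subalgebra.algebraMap_def]⟩
        · set q := M / N with hq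
          set r := M % N with hr
          have hM : M = N * q + r := (Nat.div_add_mod M N).symm
          have hrN : r < N := Nat.mod_lt _ hN
          rcases Nat.eq_zero_or_pos r with hr0 | hr0
          · -- subtract the top term
            have hb : D g M a ∈ inv g hA := D_mem_F g (by omega) ha
            have hMq : M = N * q := by omega
            have h7 := pow_mem_F g hA hf hf1 q
            rw [← hMq] at h7
            have h8 : a - D g M a * f ^ q ∈ F g A (M - 1) := by
              rw [mem_F]
              intro n hn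
              rw [map_sub, D_inv_mul g hA hb]
              rcases eq_or_lt_of_le (show M ≤ n by omega) with h | h
              · rw [← h, h7.2, mul_one, sub_self]
              · rw [(mem_F g).1 ha n h, (mem_F g).1 h7.1 n h, mul_zero, sub_zero]
            have h9 := ih (M - 1) (by omega) _ h8
            have h10 : D g M a * f ^ q ∈
                (Polynomial.aeval f : Polynomial (inv g hA) →ₐ[inv g hA] A).range :=
              ⟨Polynomial.C ⟨_, hb⟩ * Polynomial.X ^ q, by simp [Subalgebra.algebraMap_def]⟩
            have := add_mem h9 h10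
            rwa [sub_add_cancel] at this
          · -- the degree is not a multiple of `N`
            refine ih (M - 1) (by omega) _ ?_
            rw [mem_F]
            intro n hn
            rcases eq_or_lt_of_le (show M ≤ n by omega) with h | h
            · rw [← h]
              have h11 : D g (N * q) a ∈ F g A 0 := hmin r hrN (D_mem_F g (by omega) ha)
              have h12 := (mem_F g).1 h11 r hr0
              rw [D_D, show r + N * q = N * q + r by omega, choose_eq_one hchoose q r hrN, one_smul, ← hM] at h12
              exact h12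
            · exact (mem_F g).1 ha n h
    intro a
    obtain ⟨M, hM⟩ := exists_mem_F g a
    exact key M a hM

end step

end Groth.Agent.Sga3.H814.UniStep
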