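import Groth.Agent.Sga3.H814.CentralV
import Groth.Agent.Agf.H612.GalQuot
import Groth.Agent.Books.CharZeroUnip
import Groth.Agent.Sga3A.ComodUnip2

/-!
# Central subgroups of a connected unipotent group over a perfect field

`k` perfect, `K` an algebraic closure, `H` a finitely generated commutative unipotent Hopf algebra over `k` such that
`K ⊗ H` is a domain, `H ≠ k`.  There is a Hopf ideal `J` of `H`, `H / J ≠ k`, such that `K ⊗ (H / J)` is a domain,
and the points of `V(J)` are central of exponent `q` (`q = char k`).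
-/

set_option autoImplicit false

universe u

open WithConv TensorProduct Coalgebra HopfRep
open Groth.Agent.Sga3B.RG Groth.Agent.Books.ComodDual Groth.Agent.Books.ComodSocle
open Groth.Agent.Agf.H612.GalSub Groth.Agent.Agf.H612.GalPts Groth.Agent.Agf.H612.GalQuot
open Groth.Agent.Sga3B.Par.CochBC (res)

namespace Groth.Agent.Sga3.H814.CentralK

open CentralV

variable {k K : Type u} [Field k] [Field K] [Algebra k K]
variable {H : Type u} [CommRing H] [HopfAlgebra k H]

section Unip

/-- All points of a unipotent group are unipotent. -/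
theorem isUnip_of_isUnipotent (hU : IsUnipotent k H) (g : Pt K (K ⊗[k] H)) : IsUnip g := by
  intro a
  obtain ⟨n, hn⟩ := Sga3A.ComodUnip.exists_mem_soc_baseChange K hU a
  refine ⟨n, ?_⟩
  induction n generalizing a with
  | zero =>
    rw [Sga3A.ComodUnip.mem_soc_zero] at hn
    rw [hn, map_zero]
  | succ n ih =>
    rw [pow_succ, Module.End.mul_apply]
    apply ih
    have h1 := (Sga3A.ComodUnip.mem_soc_succ n a).mp hn g.ofConv.toLinearMap
    have h2 : g.ofConv.toLinearMap 1 = 1 := map_one g.ofConv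
    rw [h2, one_smul] at h1
    exact h1

end Unip

section Gal

variable (K) in
/-- The subgroup of central points of exponent `q` is stable under automorphisms. -/
lemma gal_mem_zq (q : ℕ) (σ : K ≃ₐ[k] K) {z : Pt K (K ⊗[k] H)} (hz : z ∈ zq K (K ⊗[k] H) q) :
    gal σ z ∈ zq K (K ⊗[k] H) q := by
  refine ⟨?_, ?_⟩
  · rw [Subgroup.mem_center_iff]
    intro g
    have h1 := Subgroup.mem_center_iff.1 hz.1 (gal σ.symm g)
    have h2 := congrArg (gal σ) h1
    rwa [map_mul, map_mul, gal_gal_symm] at h2
  · rw [← map_pow, hz.2, map_one]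

/-- The neutral component of a stable closed subgroup is stable. -/
lemma gal_mem_idComp [IsAlgClosed K] [Algebra.FiniteType k H] {N : Subgroup (Pt K (K ⊗[k] H))}
    (hN : IsCl (N : Set (Pt K (K ⊗[k] H))))
    (hst : ∀ σ : K ≃ₐ[k] K, ∀ g ∈ N, gal σ g ∈ N) (σ : K ≃ₐ[k] K) {g : Pt K (K ⊗[k] H)}
    (hg : g ∈ idComp N) : gal σ g ∈ idComp N := by
  have hcoe : (((idComp N).map (gal σ).toMonoidHom : Subgroup (Pt K (K ⊗[k] H))) :
      Set (Pt K (K ⊗[k] H))) = gal σ '' (idComp N : Set (Pt K (K ⊗[k] H))) := rfl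
  have h1 : (idComp N).map (gal σ).toMonoidHom ≤ idComp N := by
    apply le_idComp
    · rw [hcoe]
      exact isConn_gal σ (isConn_idComp N)
    · rintro _ ⟨x, hx, rfl⟩
      exact hst σ x (idComp_le hN hx)
  exact h1 ⟨g, hg, rfl⟩

end Gal

section Sep

variable [IsAlgClosed K]

/-- Points separate elements. -/
lemma eq_zero_of_pts [Algebra.FiniteType k H] [IsReduced (K ⊗[k] H)] {h : H}
    (hz : ∀ g : H →ₐ[k] K, g h = 0) : h = 0 := by
  have h1 : (1 : K) ⊗ₜ[k] h = 0 := by
    apply eq_zero_of_forall_pt (K := K) (A := K ⊗[k] H)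
    intro g
    exact hz (res k K H K g).ofConv
  have h2 : Function.Injective (Algebra.TensorProduct.includeRight : H →ₐ[k] K ⊗[k] H) :=
    Algebra.TensorProduct.includeRight_injective (algebraMap k K).injective
  apply h2
  rw [map_zero]
  exact h1

/-- Pairs of points separate elements of a tensor product. -/
lemma eq_zero_of_pts₂ {D : Type u} [CommRing D] [HopfAlgebra k D] [Algebra.FiniteType k H]
    [IsReduced (K ⊗[k] H)] [Algebra.FiniteType k D] [IsReduced (K ⊗[k] D)] {z : H ⊗[k] D}
    (hz : ∀ (g : H →ₐ[k] K) (v : D →ₐ[k] K),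
      Algebra.TensorProduct.lift g v (fun _ _ => Commute.all _ _) z = 0) : z = 0 := by
  apply eq_zero_of_contr
  intro ℓ
  refine eq_zero_of_pts (k := k) (K := K) (H := H) ?_
  intro g
  have h1 : Algebra.TensorProduct.map g (AlgHom.id k D) z = 0 := by
    apply eq_zero_of_forall_pt (K := K) (A := K ⊗[k] D)
    intro v
    have h2 := hz g (res k K D K v).ofConv
    rw [← h2]
    have h3 : (v.ofConv.restrictScalars k).comp (Algebra.TensorProduct.map g (AlgHom.id k D)) =
        Algebra.TensorProduct.lift g (res k K D K v).ofConv (fun _ _ => Commute.all _ _) := by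
      apply Algebra.TensorProduct.ext
      · apply AlgHom.ext
        intro a
        have h5 : (Algebra.TensorProduct.map g (AlgHom.id k D)) (a ⊗ₜ[k] (1 : D)) =
            algebraMap K (K ⊗[k] D) (g a) := rfl
        change v.ofConv ((Algebra.TensorProduct.map g (AlgHom.id k D)) (a ⊗ₜ[k] (1 : D))) =
          Algebra.TensorProduct.lift g (res k K D K v).ofConv (fun _ _ => Commute.all _ _)
            (a ⊗ₜ[k] (1 : D))
        rw [h5, AlgHom.commutes, Algebra.TensorProduct.lift_tmul, map_one, mul_one]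
        rfl
      · apply AlgHom.ext
        intro a
        change v.ofConv ((Algebra.TensorProduct.map g (AlgHom.id k D)) ((1 : H) ⊗ₜ[k] a)) =
          Algebra.TensorProduct.lift g (res k K D K v).ofConv (fun _ _ => Commute.all _ _)
            ((1 : H) ⊗ₜ[k] a)
        rw [Algebra.TensorProduct.lift_tmul, map_one, one_mul, Algebra.TensorProduct.map_tmul,
          map_one]
        rfl
    exact DFunLike.congr_fun h3 z
  have h4 : ∀ w : H ⊗[k] D, g (contr ℓ w) = LinearMap.mul' k K
      (TensorProduct.map LinearMap.id (Algebra.linearMap k K ∘ₗ ℓ)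
        (Algebra.TensorProduct.map g (AlgHom.id k D) w)) := by
    intro w
    induction w with
    | zero => simp
    | add x y hx hy => simp only [map_add, hx, hy]
    | tmul a b =>
      simp only [contr_tmul, map_smul, Algebra.TensorProduct.map_tmul, AlgHom.id_apply,
        TensorProduct.map_tmul, LinearMap.id_apply, LinearMap.comp_apply, LinearMap.mul'_apply,
        Algebra.linearMap_apply]
      rw [Algebra.smul_def, mul_comm]
  rw [h4, h1, map_zero, map_zero]

end Sep

section Main

variable [IsAlgClosed K]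

omit [IsAlgClosed K] in
/-- `K ⊗ (H / J)` is a domain if `J` generates a prime ideal. -/
lemma isDomain_quot {J : Ideal H}
    (hJ : (J.map (Algebra.TensorProduct.includeRight : H →ₐ[k] K ⊗[k] H)).IsPrime) :
    IsDomain (K ⊗[k] (H ⧸ J)) := by
  have hs : Function.Surjective (Ideal.Quotient.mkₐ k J) := Ideal.Quotient.mk_surjective
  have h1 := Algebra.TensorProduct.lTensor_ker (A := K) (Ideal.Quotient.mkₐ k J) hs
  have h0 : RingHom.ker (Ideal.Quotient.mkₐ k J) = J := Ideal.Quotient.mkₐ_ker k J
  rw [h0] at h1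
  have h2 : Function.Surjective (Algebra.TensorProduct.map (AlgHom.id k K)
      (Ideal.Quotient.mkₐ k J)) := by
    have := LinearMap.lTensor_surjective K (g := (Ideal.Quotient.mkₐ k J).toLinearMap) hs
    exact this
  have h3 : (RingHom.ker (Algebra.TensorProduct.map (AlgHom.id k K)
      (Ideal.Quotient.mkₐ k J)).toRingHom).IsPrime := by
    have h4 : RingHom.ker (Algebra.TensorProduct.map (AlgHom.id k K)
      (Ideal.Quotient.mkₐ k J)).toRingHom = J.map (Algebra.TensorProduct.includeRight :
        H →ₐ[k] K ⊗[k] H) := h1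
    rw [h4]
    exact hJ
  exact (RingHom.quotientKerEquivOfSurjective (f := (Algebra.TensorProduct.map (AlgHom.id k K)
      (Ideal.Quotient.mkₐ k J)).toRingHom) h2).symm.toMulEquiv.isDomain _

/-- **The central subgroup.** -/
theorem exists_ideal [PerfectField k] [Algebra.IsAlgebraic k K] [Algebra.FiniteType k H]
    [IsDomain (K ⊗[k] H)] (hU : IsUnipotent k H) (hne : Nontrivial (Pt K (K ⊗[k] H))) (q : ℕ)
    (hq : q = 0 ∨ (q.Prime ∧ CharP K q)) :
    ∃ (J : Ideal H) (_ : J.IsHopfIdeal k), IsDomain (K ⊗[k] (H ⧸ J)) ∧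
      (∃ g : WithConv (H →ₐ[k] K), (∀ a ∈ J, g.ofConv a = 0) ∧ g ≠ 1) ∧
      ∀ g : WithConv (H →ₐ[k] K), (∀ a ∈ J, g.ofConv a = 0) →
        g ∈ Subgroup.center (WithConv (H →ₐ[k] K)) ∧ g ^ q = 1 := by
  have hst : ∀ σ : K ≃ₐ[k] K, ∀ g ∈ idComp (zq K (K ⊗[k] H) q),
      gal σ g ∈ idComp (zq K (K ⊗[k] H) q) := fun σ g hg =>
    gal_mem_idComp (isCl_zq q) (fun σ z hz => gal_mem_zq K q σ hz) σ hg
  have hJ := map_comap_vanIdeal (fun c h => mem_range_of_fixed k K c h)
    (S := (idComp (zq K (K ⊗[k] H) q) : Set (Pt K (K ⊗[k] H)))) hst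
  set J := (vanIdeal (idComp (zq K (K ⊗[k] H) q) : Set (Pt K (K ⊗[k] H)))).comap
    (Algebra.TensorProduct.includeRight : H →ₐ[k] K ⊗[k] H) with hJdef
  have h1 : (J.map (Algebra.TensorProduct.includeRight : H →ₐ[k] K ⊗[k] H)).IsHopfIdeal K := by
    rw [hJ]
    infer_instance
  have hmem : ∀ g : Pt K (K ⊗[k] H), (∀ a ∈ J, g.ofConv (1 ⊗ₜ a) = 0) →
      g ∈ idComp (zq K (K ⊗[k] H) q) := by
    intro g hg
    apply isCl_idComp
    intro a ha
    rw [← hJ] at ha
    have h2 : J.map (Algebra.TensorProduct.includeRight : H →ₐ[k] K ⊗[k] H) ≤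
        RingHom.ker g.ofConv := by
      rw [Ideal.map_le_iff_le_comap]
      exact fun b hb => hg b hb
    exact h2 ha
  refine ⟨J, isHopfIdeal_of_map J h1, ?_, ?_, ?_⟩
  · apply isDomain_quot
    rw [hJ]
    exact isConn_idComp _
  · have hbot := idComp_zq_ne_bot (fun g => isUnip_of_isUnipotent hU g) hne q hq
    obtain ⟨⟨g, hg⟩, hg1⟩ := Subgroup.ne_bot_iff_exists_ne_one.1 hbot
    refine ⟨res k K H K g, fun a ha => ?_, fun h => hg1 ?_⟩
    · exact ha g hg
    · apply Subtype.ext
      rw [← map_one (res k K H K)] at h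
      exact (res k K H K).injective h
  · intro g hg
    have h3 := idComp_le (isCl_zq q) (hmem ((res k K H K).symm g) (by
      intro a ha
      rw [Groth.Agent.Sga3B.Par.CochBC.res_symm_apply, map_one, one_mul]
      exact hg a ha))
    refine ⟨?_, ?_⟩
    · rw [Subgroup.mem_center_iff]
      intro x
      have h4 := Subgroup.mem_center_iff.1 h3.1 ((res k K H K).symm x)
      rw [← map_mul, ← map_mul] at h4
      exact (res k K H K).symm.injective h4
    · have h5 := h3.2
      rw [← map_pow, ← map_one (res k K H K).symm] at h5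
      exact (res k K H K).symm.injective h5

end Main

end Groth.Agent.Sga3.H814.CentralK
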