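import Groth.Agent.Agf.H611.NilPts
import Groth.Agent.Sga3B.RG.SsExt885
import Mathlib.Algebra.CharP.Algebra
import Mathlib.Algebra.CharP.Lemmas

/-!
# Central connected subgroups of exponent `p` in a connected unipotent group

`K` algebraically closed, `A` a finitely generated commutative Hopf algebra, a domain, all of whose points are
unipotent.  The neutral component of the subgroup of central points `z` with `z ^ q = 1` is nontrivial as soon as the
group is; here `q = 0` (no condition) or `q` is the characteristic of `K`.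
-/

set_option autoImplicit false

universe u

open WithConv TensorProduct Coalgebra Pointwise
open Groth.Agent.Sga3B.RG
open scoped commutatorElement

namespace Groth.Agent.Sga3.H814.CentralV

variable {K : Type u} [Field K] {A : Type u} [CommRing A] [HopfAlgebra K A]

variable (K A) in
/-- The central points `z` with `z ^ q = 1`. -/
def zq (q : ℕ) : Subgroup (Pt K A) where
  carrier := {z | z ∈ Subgroup.center (Pt K A) ∧ z ^ q = 1}
  mul_mem' := by
    rintro a b ⟨ha, ha'⟩ ⟨hb, hb'⟩
    refine ⟨mul_mem ha hb, ?_⟩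
    have hc : Commute a b := (Subgroup.mem_center_iff.1 ha b).symm
    rw [hc.mul_pow, ha', hb', one_mul]
  one_mem' := ⟨one_mem _, one_pow _⟩
  inv_mem' := by
    rintro a ⟨ha, ha'⟩
    exact ⟨inv_mem ha, by rw [inv_pow, ha', inv_one]⟩

lemma mem_zq {q : ℕ} {z : Pt K A} : z ∈ zq K A q ↔ z ∈ Subgroup.center (Pt K A) ∧ z ^ q = 1 :=
  Iff.rfl

lemma isReg_pow (n : ℕ) : IsReg (fun g : Pt K A => g ^ n) := by
  induction n with
  | zero =>
    simp only [pow_zero]
    exact isReg_const 1
  | succ n ih =>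
    simp only [pow_succ]
    exact ih.mul isReg_id

lemma isCl_zq [IsAlgClosed K] [Algebra.FiniteType K A] (q : ℕ) :
    IsCl (zq K A q : Set (Pt K A)) := by
  have h : (zq K A q : Set (Pt K A)) =
      (Subgroup.center (Pt K A) : Set (Pt K A)) ∩ {z | z ^ q = 1} := rfl
  rw [h]
  exact BcPt.isCl_center.inter ((isReg_pow q).isCl_eq (isReg_const 1))

section

variable [IsAlgClosed K] [Algebra.FiniteType K A] [IsDomain A]

/-- A nontrivial connected nilpotent group contains a nontrivial connected set of central points through `1`. -/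
lemma exists_conn_center (hN : Group.IsNilpotent (Pt K A)) (hne : Nontrivial (Pt K A)) :
    ∃ X : Set (Pt K A), IsConn X ∧ 1 ∈ X ∧ X ⊆ Subgroup.center (Pt K A) ∧ ∃ x ∈ X, x ≠ 1 := by
  classical
  obtain ⟨n, hn⟩ := hN.nilpotent'
  have hex : ∃ n, ∀ g ∈ Agf.H611.NilGrp.ncs (Pt K A) n, g = 1 :=
    ⟨n, (Agf.H611.NilGrp.upperCentralSeries_eq_top_iff n).1 hn⟩
  have h0 : Nat.find hex ≠ 0 := by
    intro h
    have h1 := Nat.find_spec hex
    rw [h] at h1
    obtain ⟨x, hx⟩ := exists_ne (1 : Pt K A)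
    exact hx (h1 x trivial)
  obtain ⟨m, hm⟩ := Nat.exists_eq_succ_of_ne_zero h0
  have h1 := Nat.find_spec hex
  rw [hm] at h1
  have h2 : ¬ ∀ g ∈ Agf.H611.NilGrp.ncs (Pt K A) m, g = 1 :=
    Nat.find_min hex (by omega)
  push Not at h2
  obtain ⟨g, hg, hg1⟩ := h2
  have hcen : ∀ a ∈ Agf.H611.NilGrp.ncs (Pt K A) m, a ∈ Subgroup.center (Pt K A) := by
    intro a ha
    rw [Subgroup.mem_center_iff]
    intro b
    have := h1 ⁅a, b⁆ ⟨a, ha, b, rfl⟩
    exact (commutatorElement_eq_one_iff_mul_comm.1 this).symm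
  cases m with
  | zero => exact ⟨Set.univ, isConn_univ, trivial, fun a _ => hcen a trivial, g, trivial, hg1⟩
  | succ m =>
    obtain ⟨a, ha, b, rfl⟩ := hg
    refine ⟨(fun b : Pt K A => ⁅a, b⁆) '' Set.univ, isConn_univ.image_reg ?_, ?_, ?_, ⁅a, b⁆,
      ⟨b, trivial, rfl⟩, hg1⟩
    · have : (fun b : Pt K A => ⁅a, b⁆) = fun b => a * b * a⁻¹ * b⁻¹ := rfl
      rw [this]
      exact ((isReg_id.const_mul a).mul_const _).mul isReg_inv
    · exact ⟨1, trivial, commutatorElement_one_right a⟩
    · rintro _ ⟨c, -, rfl⟩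
      exact hcen _ ⟨a, ha, c, rfl⟩

/-- In characteristic `p` unipotent points have bounded `p`-power order. -/
lemma exists_pow_char_eq_one (p : ℕ) [Fact p.Prime] [CharP K p] :
    ∃ m : ℕ, ∀ g : Pt K A, IsUnip g → g ^ p ^ m = 1 := by
  obtain ⟨W, hWf, hW, hgen⟩ := exists_generating_stable K A
  have hinj := subRTr_injective hW hgen
  refine ⟨Module.finrank K W, fun g hg => ?_⟩
  apply hinj
  rw [map_one, map_pow]
  rcases subsingleton_or_nontrivial W with hW0 | hW0
  · exact Subsingleton.elim _ _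
  have hcp : CharP (Module.End K W) p := charP_of_injective_algebraMap (algebraMap K _).injective p
  have hn := pow_finrank_of_isNilpotent (isNilpotent_subRTr hW hg)
  have h1 : Module.finrank K W ≤ p ^ Module.finrank K W :=
    (Nat.lt_pow_self (Fact.out : p.Prime).one_lt).le
  have h2 : (subRTr W hW g - 1) ^ p ^ Module.finrank K W = 0 := pow_eq_zero_of_le h1 hn
  have h3 : ((subRTr W hW g : Module.End K W) - 1) ^ p ^ Module.finrank K W =
      (subRTr W hW g : Module.End K W) ^ p ^ Module.finrank K W - 1 ^ p ^ Module.finrank K W :=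
    sub_pow_char_pow_of_commute (R := Module.End K W) p (Module.finrank K W)
      (Commute.one_right (subRTr W hW g : Module.End K W))
  rw [h2, one_pow] at h3
  exact (sub_eq_zero.1 h3.symm)

/-- **The central part of exponent `q` has nontrivial neutral component.** -/
theorem idComp_zq_ne_bot (hU : ∀ g : Pt K A, IsUnip g) (hne : Nontrivial (Pt K A)) (q : ℕ)
    (hq : q = 0 ∨ (q.Prime ∧ CharP K q)) : idComp (zq K A q) ≠ ⊥ := by
  classical
  have hN : Group.IsNilpotent (Pt K A) := by
    have h1 : Group.IsNilpotent (⊤ : Subgroup (Pt K A)) :=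
      Agf.H611.NilPts.isNilpotent_of_isUnip fun g _ => hU g
    exact Group.nilpotent_of_mulEquiv Subgroup.topEquiv
  obtain ⟨X, hX, h1X, hXZ, x, hxX, hx1⟩ := exists_conn_center hN hne
  rcases hq with rfl | ⟨hp, hcp⟩
  · intro hbot
    have h2 : X ⊆ idComp (zq K A 0) := hX.subset_idComp h1X (fun y hy => ⟨hXZ hy, pow_zero y⟩)
    have := h2 hxX
    rw [hbot] at this
    exact hx1 (Subgroup.mem_bot.1 this)
  · have : Fact q.Prime := ⟨hp⟩
    obtain ⟨m, hm⟩ := exists_pow_char_eq_one (K := K) (A := A) q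
    have hex : ∃ m, ∀ y ∈ X, y ^ q ^ m = 1 := ⟨m, fun y _ => hm y (hU y)⟩
    have h0 : Nat.find hex ≠ 0 := by
      intro h
      have h1 := Nat.find_spec hex
      rw [h] at h1
      exact hx1 (by simpa using h1 x hxX)
    obtain ⟨l, hl⟩ := Nat.exists_eq_succ_of_ne_zero h0
    have h1 := Nat.find_spec hex
    rw [hl] at h1
    have h2 : ¬ ∀ y ∈ X, y ^ q ^ l = 1 := Nat.find_min hex (by omega)
    push Not at h2
    obtain ⟨y, hy, hy1⟩ := h2
    intro hbot
    have h3 : (fun g : Pt K A => g ^ q ^ l) '' X ⊆ idComp (zq K A q) := by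
      refine (hX.image_reg (isReg_pow _)).subset_idComp ⟨1, h1X, one_pow _⟩ ?_
      rintro _ ⟨z, hz, rfl⟩
      refine ⟨pow_mem (hXZ hz) _, ?_⟩
      change (z ^ q ^ l) ^ q = 1
      rw [← pow_mul, ← pow_succ]
      exact h1 z hz
    have h4 := h3 ⟨y, hy, rfl⟩
    rw [hbot] at h4
    exact hy1 (Subgroup.mem_bot.1 h4)

end

end Groth.Agent.Sga3.H814.CentralV
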