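import Groth.Agent.Sga3.H814.UniStep
import Groth.Agent.Books.SubHopf
import Groth.Agent.Books.CharZeroUnip

/-!
# Restricting a coaction to the invariants of a central subgroup

* `mem_range_map` : elements of `V ⊗ A` lying in `W ⊗ B`;
* `antipode_mem` : sub-bialgebras of unipotent Hopf algebras are stable under the antipode;
* `comodSub` : the comodule structure on a subalgebra `W` of a comodule algebra whose coaction lands in `W ⊗ B`.
-/

set_option autoImplicit false

universe u v w

open TensorProduct HopfRep WithConv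
open Groth.Agent.Books.ComodDual Groth.Agent.Books.ComodSocle Groth.Agent.Books.SubHopf
open Groth.Agent.Books.CharZeroUnip
open Groth.Agent.Sga3.H814.UniStep

namespace Groth.Agent.Sga3.H814.SubInv

section Range

variable {k : Type u} [Field k] {V : Type v} {A : Type w} [AddCommGroup V] [Module k V]
  [AddCommGroup A] [Module k A]

lemma mem_range_map (W : Submodule k V) (B : Submodule k A) (z : V ⊗[k] A)
    (h1 : ∀ f : A →ₗ[k] k, contr f z ∈ W)
    (h2 : ∀ φ : V →ₗ[k] k, TensorProduct.lid k A (φ.rTensor A z) ∈ B) :
    z ∈ LinearMap.range (TensorProduct.map W.subtype B.subtype) := by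
  obtain ⟨y, rfl⟩ := (mem_range_rTensor_iff W z).2 h1
  have h3 : TensorProduct.comm k W A y ∈ LinearMap.range (B.subtype.rTensor W) := by
    rw [mem_range_rTensor_iff]
    intro f
    obtain ⟨F, hF⟩ := LinearMap.exists_extend f
    have h4 := h2 F
    have h5 : ∀ y : W ⊗[k] A, TensorProduct.lid k A (F.rTensor A (W.subtype.rTensor A y)) =
        contr f (TensorProduct.comm k W A y) := by
      intro y
      induction y with
      | zero => simp
      | add x y hx hy => simp only [map_add, hx, hy]
      | tmul x a =>
        have : F (x : V) = f x := by rw [← hF]; rfl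
        simp [this]
    rw [← h5]
    exact h4
  obtain ⟨t, ht⟩ := h3
  refine ⟨TensorProduct.comm k B W t, ?_⟩
  have h6 : y = (TensorProduct.comm k W A).symm (B.subtype.rTensor W t) := by
    rw [ht, LinearEquiv.symm_apply_apply]
  rw [h6]
  clear ht h6
  induction t with
  | zero => simp
  | add x y hx hy => simp only [map_add, hx, hy]
  | tmul b w => simp

end Range

section Antipode

variable {k : Type u} {H : Type v} [Field k] [CommRing H] [HopfAlgebra k H]

lemma convMul_mem {B : Subalgebra k H} {F G : WithConv (H →ₗ[k] H)}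
    (hF : ∀ b ∈ B, F b ∈ B) (hG : ∀ b ∈ B, G b ∈ B) {h : H}
    (hh : CoalgebraStruct.comul (R := k) h ∈
      LinearMap.range (TensorProduct.map B.val.toLinearMap B.val.toLinearMap)) : (F * G) h ∈ B := by
  obtain ⟨y, hy⟩ := hh
  rw [LinearMap.convMul_apply]
  have h1 : (Coalgebra.comul (R := k) h) = TensorProduct.map B.val.toLinearMap B.val.toLinearMap y :=
    hy.symm
  rw [h1]
  clear hy h1
  induction y with
  | zero => simp
  | add x y hx hy => simp only [map_add]; exact B.add_mem hx hy
  | tmul a b => exact B.mul_mem (hF _ a.2) (hG _ b.2)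

/-- A sub-bialgebra of a unipotent Hopf algebra is stable under the antipode. -/
theorem antipode_mem (hU : ∀ h : H, ∃ n, h ∈ soc k H H n) {B : Subalgebra k H}
    (hB : ∀ b ∈ B, CoalgebraStruct.comul (R := k) b ∈
      LinearMap.range (TensorProduct.map B.val.toLinearMap B.val.toLinearMap)) (b : H) (hb : b ∈ B) :
    HopfAlgebraStruct.antipode (R := k) b ∈ B := by
  have hJ : ∀ n : ℕ, ∀ b ∈ B, (J k H ^ n) b ∈ B := by
    intro n
    induction n with
    | zero =>
      intro b _
      exact B.algebraMap_mem (CoalgebraStruct.counit (R := k) b)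
    | succ n ih =>
      intro b hb
      rw [pow_succ]
      refine convMul_mem ih ?_ (hB b hb)
      intro b hb
      exact B.sub_mem hb (B.algebraMap_mem (CoalgebraStruct.counit (R := k) b))
  set S : WithConv (H →ₗ[k] H) := toConv (HopfAlgebraStruct.antipode (R := k) (A := H)) with hS
  have h1 : S * toConv LinearMap.id = 1 := LinearMap.antipode_mul_id
  have h2 : (toConv LinearMap.id : WithConv (H →ₗ[k] H)) = 1 + J k H := by
    rw [J]; abel
  have h3 : S = 1 - S * J k H := by
    rw [h2, mul_add, mul_one] at h1
    exact eq_sub_of_add_eq h1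
  have h4 : ∀ n : ℕ, ∃ c : ℕ → ℤ, S = ∑ i ∈ Finset.range n, c i • J k H ^ i +
      c n • (S * J k H ^ n) := by
    intro n
    refine ⟨fun i => (-1) ^ i, ?_⟩
    induction n with
    | zero => simp
    | succ n ih =>
      rw [Finset.sum_range_succ]
      calc S = ∑ i ∈ Finset.range n, (-1 : ℤ) ^ i • J k H ^ i + (-1 : ℤ) ^ n • (S * J k H ^ n) := ih
        _ = ∑ i ∈ Finset.range n, (-1 : ℤ) ^ i • J k H ^ i + (-1 : ℤ) ^ n •
            ((1 - S * J k H) * J k H ^ n) := by rw [← h3]
        _ = _ := by
          beta_reduce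
          rw [sub_mul, one_mul, mul_assoc, ← pow_succ', smul_sub, pow_succ (-1 : ℤ) n]
          simp only [mul_neg, mul_one, neg_smul]
          abel
  obtain ⟨n, hn⟩ := hU b
  obtain ⟨c, hc⟩ := h4 n
  have h5 : (S * J k H ^ n) b = 0 := by
    refine convMul_apply_eq_zero 0 n S (J k H ^ n) ?_ (fun x hx => J_pow_apply_eq_zero n x hx) b
      (by rwa [zero_add])
    intro x hx
    rw [soc_zero, Submodule.mem_bot] at hx
    rw [hx]
    exact map_zero S.ofConv
  have h6 : S b = ∑ i ∈ Finset.range n, c i • (J k H ^ i) b := by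
    let ev : WithConv (H →ₗ[k] H) →+ H :=
      { toFun := fun F => F.ofConv b, map_zero' := rfl, map_add' := fun _ _ => rfl }
    have h7 := congrArg ev hc
    rw [map_add, map_sum, map_zsmul] at h7
    have h9 : ev (S * J k H ^ n) = 0 := h5
    rw [h9, smul_zero, add_zero] at h7
    refine h7.trans (Finset.sum_congr rfl fun i _ => ?_)
    rw [map_zsmul]
    rfl
  have h10 : S b ∈ B := by
    rw [h6]
    exact B.sum_mem fun i _ => B.toSubring.zsmul_mem (hJ i b hb) (c i)
  exact h10

end Antipode

end Groth.Agent.Sga3.H814.SubInv
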