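import Groth.Agent.Sga3.H814.SubInv

/-!
# The comodule algebra of invariants of a central additive subgroup

* `comodSub` : the comodule structure on a subalgebra `W` of a comodule algebra whose coaction lands in `W ⊗ B`;
* `isSubHopf_inv` : the invariants of a central additive subgroup in `H` form a sub-Hopf algebra `H'`;
* `coact_inv_mem` : the invariants in `A` are a comodule algebra over `H'`.
-/

set_option autoImplicit false

universe u v w

open TensorProduct HopfRep WithConv
open Groth.Agent.Books.ComodDual Groth.Agent.Books.ComodSocle Groth.Agent.Books.SubHopf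
open Groth.Agent.Sga3.H814.UniStep

namespace Groth.Agent.Sga3.H814.SubInv

section ComodSub

variable {k : Type u} [Field k] {H : Type v} [CommRing H] [HopfAlgebra k H] {A : Type w} [CommRing A]
  [Algebra k A]

/-- The inclusion `W ⊗ B → A ⊗ H`. -/
noncomputable def j (W : Subalgebra k A) (B : Subalgebra k H) : W ⊗[k] B →ₗ[k] A ⊗[k] H :=
  TensorProduct.map W.val.toLinearMap B.val.toLinearMap

@[simp] lemma j_tmul (W : Subalgebra k A) (B : Subalgebra k H) (w : W) (b : B) :
    j W B (w ⊗ₜ[k] b) = (w : A) ⊗ₜ[k] (b : H) := rfl

lemma map_injective' {V V' X X' : Type*} [AddCommGroup V] [Module k V] [AddCommGroup V']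
    [Module k V'] [AddCommGroup X] [Module k X] [AddCommGroup X'] [Module k X']
    {f : V →ₗ[k] V'} {g : X →ₗ[k] X'} (hf : Function.Injective f) (hg : Function.Injective g) :
    Function.Injective (TensorProduct.map f g) := by
  have h2 : TensorProduct.map f g = (f.rTensor X') ∘ₗ (g.lTensor V) := by
    rw [LinearMap.rTensor, LinearMap.lTensor, ← TensorProduct.map_comp, LinearMap.comp_id,
      LinearMap.id_comp]
  rw [h2]
  exact (Module.Flat.rTensor_preserves_injective_linearMap _ hf).comp
    (Module.Flat.lTensor_preserves_injective_linearMap _ hg)

lemma j_injective (W : Subalgebra k A) (B : Subalgebra k H) : Function.Injective (j W B) :=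
  map_injective' Subtype.val_injective Subtype.val_injective

variable [Comod k H A] {W : Subalgebra k A} {B : Subalgebra k H}

/-- The restricted coaction. -/
noncomputable def coactSub
    (hW : ∀ w ∈ W, Comod.coact (k := k) (A := H) w ∈ LinearMap.range (j W B)) :
    W →ₗ[k] W ⊗[k] B :=
  (LinearEquiv.ofInjective (j W B) (j_injective W B)).symm.toLinearMap ∘ₗ
    ((Comod.coact (k := k) (A := H) ∘ₗ W.val.toLinearMap).codRestrict (LinearMap.range (j W B))
      (fun w => hW w w.2))

lemma j_coactSub (hW : ∀ w ∈ W, Comod.coact (k := k) (A := H) w ∈ LinearMap.range (j W B)) (w : W) :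
    j W B (coactSub hW w) = Comod.coact (k := k) (A := H) (w : A) := by
  have h := LinearEquiv.apply_symm_apply (LinearEquiv.ofInjective (j W B) (j_injective W B))
    ((Comod.coact (k := k) (A := H) ∘ₗ W.val.toLinearMap).codRestrict (LinearMap.range (j W B))
      (fun w => hW w w.2) w)
  exact congrArg Subtype.val h

/-- The comodule structure on a subalgebra. -/
noncomputable abbrev comodSub (hB : IsSubHopf (k := k) B)
    (hW : ∀ w ∈ W, Comod.coact (k := k) (A := H) w ∈ LinearMap.range (j W B)) :
    letI := hB.hopf
    Comod k B W :=
  letI := hB.hopf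
  { coact := coactSub hW
    coassoc := by
      apply LinearMap.ext
      intro w
      have hinj : Function.Injective (TensorProduct.map W.val.toLinearMap
          (TensorProduct.map B.val.toLinearMap B.val.toLinearMap) : W ⊗[k] (B ⊗[k] B) →ₗ[k] _) :=
        map_injective' Subtype.val_injective (map_injective' Subtype.val_injective
          Subtype.val_injective)
      apply hinj
      have h1 : ∀ z : W ⊗[k] B, (TensorProduct.map W.val.toLinearMap
          (TensorProduct.map B.val.toLinearMap B.val.toLinearMap))
          ((TensorProduct.assoc k W B B) ((coactSub hW).rTensor B z)) =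
          (TensorProduct.assoc k A H H) ((Comod.coact (k := k) (A := H)).rTensor H (j W B z)) := by
        intro z
        induction z with
        | zero => simp
        | add x y hx hy => simp only [map_add, hx, hy]
        | tmul x b =>
          rw [LinearMap.rTensor_tmul, j_tmul, LinearMap.rTensor_tmul, ← j_coactSub hW x]
          generalize coactSub hW x = y
          induction y with
          | zero => simp
          | add x y hx hy => simp only [map_add, add_tmul, hx, hy]
          | tmul x a => rfl
      have h2 : ∀ z : W ⊗[k] B, (TensorProduct.map W.val.toLinearMap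
          (TensorProduct.map B.val.toLinearMap B.val.toLinearMap))
          ((CoalgebraStruct.comul (R := k) (A := B)).lTensor W z) =
          (CoalgebraStruct.comul (R := k) (A := H)).lTensor A (j W B z) := by
        intro z
        induction z with
        | zero => simp
        | add x y hx hy => simp only [map_add, hx, hy]
        | tmul x b =>
          rw [LinearMap.lTensor_tmul, j_tmul, LinearMap.lTensor_tmul, TensorProduct.map_tmul]
          have h3 := hB.incl2_comulSub b
          exact congrArg (fun t => (x : A) ⊗ₜ[k] t) h3
      have h4 := LinearMap.congr_fun (Comod.coassoc (k := k) (A := H) (V := A)) (w : A)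
      have h5 : (TensorProduct.assoc k A H H) ((Comod.coact (k := k) (A := H)).rTensor H
          (Comod.coact (k := k) (A := H) (w : A))) =
          (CoalgebraStruct.comul (R := k) (A := H)).lTensor A
            (Comod.coact (k := k) (A := H) (w : A)) := h4
      change (TensorProduct.map W.val.toLinearMap
          (TensorProduct.map B.val.toLinearMap B.val.toLinearMap))
          ((TensorProduct.assoc k W B B) ((coactSub hW).rTensor B (coactSub hW w))) =
        (TensorProduct.map W.val.toLinearMap
          (TensorProduct.map B.val.toLinearMap B.val.toLinearMap))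
          ((CoalgebraStruct.comul (R := k) (A := B)).lTensor W (coactSub hW w))
      rw [h1, h2, j_coactSub, h5]
    counit_comp := by
      apply LinearMap.ext
      intro w
      apply Module.Flat.rTensor_preserves_injective_linearMap (M := k) W.val.toLinearMap
        Subtype.val_injective
      have h1 : ∀ z : W ⊗[k] B, (W.val.toLinearMap.rTensor k)
          ((CoalgebraStruct.counit (R := k) (A := B)).lTensor W z) =
          (CoalgebraStruct.counit (R := k) (A := H)).lTensor A (j W B z) := by
        intro z
        induction z with
        | zero => simp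
        | add x y hx hy => simp only [map_add, hx, hy]
        | tmul x b => rfl
      have h4 := LinearMap.congr_fun (Comod.counit_comp (k := k) (A := H) (V := A)) (w : A)
      have h5 : (CoalgebraStruct.counit (R := k) (A := H)).lTensor A
            (Comod.coact (k := k) (A := H) (w : A)) = (w : A) ⊗ₜ[k] (1 : k) := h4
      change (W.val.toLinearMap.rTensor k)
          ((CoalgebraStruct.counit (R := k) (A := B)).lTensor W (coactSub hW w)) =
            (W.val.toLinearMap.rTensor k) (w ⊗ₜ[k] (1 : k))
      rw [h1, j_coactSub, h5]
      rfl }

/-- The restricted coaction is multiplicative. -/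
lemma isComodAlg_sub (hA : IsComodAlg k H A) (hB : IsSubHopf (k := k) B)
    (hW : ∀ w ∈ W, Comod.coact (k := k) (A := H) w ∈ LinearMap.range (j W B)) :
    letI := hB.hopf
    letI := comodSub hB hW
    IsComodAlg k B W := by
  letI := hB.hopf
  letI := comodSub hB hW
  have hmul : ∀ x y : W ⊗[k] B, j W B (x * y) = j W B x * j W B y := by
    intro x y
    exact map_mul (Algebra.TensorProduct.map W.val B.val) x y
  refine ⟨fun a b => ?_, ?_⟩
  · apply j_injective W B
    change j W B (coactSub hW (a * b)) = j W B (coactSub hW a * coactSub hW b)
    rw [hmul, j_coactSub, j_coactSub, j_coactSub]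
    exact hA.coact_mul _ _
  · apply j_injective W B
    change j W B (coactSub hW 1) = j W B 1
    rw [j_coactSub]
    exact hA.coact_one.trans (map_one (Algebra.TensorProduct.map W.val B.val)).symm

/-- fixed points of the restricted coaction -/
lemma mem_fixedPts_of_sub (hB : IsSubHopf (k := k) B)
    (hW : ∀ w ∈ W, Comod.coact (k := k) (A := H) w ∈ LinearMap.range (j W B)) (w : W)
    (hw : letI := hB.hopf
      letI := comodSub hB hW
      w ∈ fixedPts k B W) : (w : A) ∈ fixedPts k H A := by
  letI := hB.hopf
  letI := comodSub hB hW
  have h1 : coactSub hW w = w ⊗ₜ[k] (1 : B) := hw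
  change Comod.coact (k := k) (A := H) (w : A) = (w : A) ⊗ₜ[k] (1 : H)
  rw [← j_coactSub hW, h1]
  rfl

end ComodSub

section Inv

variable {k : Type u} [Field k] {H : Type v} [CommRing H] [HopfAlgebra k H]

/-- `H` as a comodule algebra over itself. -/
lemma isComodAlg_self : IsComodAlg k H H :=
  ⟨fun a b => Bialgebra.comul_mul a b, Bialgebra.comul_one⟩

variable (g : GaFun k H)

/-- The invariants in `H` form a sub-Hopf algebra. -/
theorem isSubHopf_inv (hU : ∀ h : H, ∃ n, h ∈ soc k H H n) :
    IsSubHopf (k := k) (inv g (isComodAlg_self (k := k) (H := H))) := by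
  have hcomul : ∀ b ∈ inv g (isComodAlg_self (k := k) (H := H)),
      CoalgebraStruct.comul (R := k) b ∈ LinearMap.range (TensorProduct.map
        (inv g (isComodAlg_self (k := k) (H := H))).val.toLinearMap
        (inv g (isComodAlg_self (k := k) (H := H))).val.toLinearMap) := by
    intro b hb
    rw [mem_inv] at hb
    refine mem_range_map (Subalgebra.toSubmodule (inv g (isComodAlg_self (k := k) (H := H))))
      (Subalgebra.toSubmodule (inv g (isComodAlg_self (k := k) (H := H)))) _ (fun f => ?_)
      (fun φ => ?_)
    · change cact f b ∈ inv g (isComodAlg_self (k := k) (H := H))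
      rw [mem_inv]
      intro n hn
      rw [D_cact, hb n hn, map_zero]
    · change ract φ b ∈ inv g (isComodAlg_self (k := k) (H := H))
      rw [mem_inv]
      intro n hn
      rw [D, cact_ract]
      have := hb n hn
      rw [D] at this
      rw [this, map_zero]
  exact ⟨hcomul, antipode_mem hU hcomul⟩

variable {A : Type w} [CommRing A] [Algebra k A] [Comod k H A]

/-- The coaction restricts to the invariants. -/
theorem coact_inv_mem (hA : IsComodAlg k H A) (a : A) (ha : a ∈ inv g hA) :
    Comod.coact (k := k) (A := H) a ∈
      LinearMap.range (j (inv g hA) (inv g (isComodAlg_self (k := k) (H := H)))) := by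
  rw [mem_inv] at ha
  refine mem_range_map (Subalgebra.toSubmodule (inv g hA))
      (Subalgebra.toSubmodule (inv g (isComodAlg_self (k := k) (H := H)))) _ (fun f => ?_)
      (fun φ => ?_)
  · change cact f a ∈ inv g hA
    rw [mem_inv]
    intro n hn
    rw [D_cact, ha n hn, map_zero]
  · change coeff φ a ∈ inv g (isComodAlg_self (k := k) (H := H))
    rw [mem_inv]
    intro n hn
    have := ha n hn
    rw [D] at this
    rw [D, ← coeff_cact, this, map_zero]

end Inv

end Groth.Agent.Sga3.H814.SubInv
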